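import Cfsg.Agent.Characters.Orthogonality
import Cfsg.Agent.Characters.Integrality
import Cfsg.Agent.Characters.Linear

/-!
# Character sums over commutators
-/

set_option autoImplicit false
set_option linter.style.haveILetI false

namespace CfsgLib.WordCount

open Representation
open scoped ComplexConjugate

universe u

variable {G : Type u} [Group G] [Fintype G]

/-- Averaging a conjugate against an element. -/
theorem sum_conj_mul (χ : Cfsg.IrrCharacter G) (x y : G) :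
    ∑ b : G, (χ : G → ℂ) (b * x * b⁻¹ * y) =
      (Nat.card G : ℂ) / (χ : G → ℂ) 1 * ((χ : G → ℂ) x * (χ : G → ℂ) y) := by
  classical
  obtain ⟨n, ρ, hρ, hρc⟩ := χ.2
  set T : Module.End ℂ (Fin n → ℂ) := ∑ b : G, ρ (b * x * b⁻¹) with hT
  obtain ⟨c, hc⟩ := CfsgLib.Characters.schur_scalar ρ T fun a v => by
    simp only [hT, LinearMap.sum_apply, map_sum, ← Module.End.mul_apply, ← map_mul]
    refine Fintype.sum_bijective (fun b => a⁻¹ * b) (Group.mulLeft_bijective _) _ _ fun b => ?_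
    congr 2
    group
  have hd : (χ : G → ℂ) 1 = (Module.finrank ℂ (Fin n → ℂ) : ℂ) := by
    rw [← hρc, Representation.char_one]
  have h1 : c * (χ : G → ℂ) 1 = (Nat.card G : ℂ) * (χ : G → ℂ) x := by
    rw [hd, ← CfsgLib.Characters.trace_smul_id (V := Fin n → ℂ), ← hc, hT, map_sum]
    have : ∀ b : G, LinearMap.trace ℂ (Fin n → ℂ) (ρ (b * x * b⁻¹)) = (χ : G → ℂ) x := fun b => by
      rw [← hρc]; exact Representation.char_conj ρ x b
    rw [Finset.sum_congr rfl fun b _ => this b, Finset.sum_const, Finset.card_univ, nsmul_eq_mul,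
      Nat.card_eq_fintype_card]
  have h2 : ∑ b : G, (χ : G → ℂ) (b * x * b⁻¹ * y) = c * (χ : G → ℂ) y := by
    have : LinearMap.trace ℂ (Fin n → ℂ) (T * ρ y) = c * (χ : G → ℂ) y := by
      rw [hc, ← hρc, smul_mul_assoc, map_smul]
      rfl
    rw [← this, hT, Finset.sum_mul, map_sum, ← hρc]
    exact Finset.sum_congr rfl fun b _ => by rw [← map_mul]; rfl
  rw [h2]
  have h0 := CfsgLib.Characters.irr_one_ne_zero χ.2
  field_simp
  linear_combination ((χ : G → ℂ) y) * h1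

/-- Convolution of a character with its conjugate. -/
theorem sum_inv_mul (χ : Cfsg.IrrCharacter G) (y : G) :
    ∑ a : G, (χ : G → ℂ) a⁻¹ * (χ : G → ℂ) (y * a) =
      (Nat.card G : ℂ) / (χ : G → ℂ) 1 * (χ : G → ℂ) y := by
  classical
  obtain ⟨n, ρ, hρ, hρc⟩ := χ.2
  have hcl : Cfsg.IsClassFunction G (χ : G → ℂ) := CfsgLib.Characters.isClassFunction_of_isIrr χ.2
  obtain ⟨c, hc⟩ := CfsgLib.Characters.schur_scalar ρ
    (CfsgLib.Characters.avgOp (χ : G → ℂ) ρ) (CfsgLib.Characters.avgOp_comm hcl ρ)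
  have hd : (χ : G → ℂ) 1 = (Module.finrank ℂ (Fin n → ℂ) : ℂ) := by
    rw [← hρc, Representation.char_one]
  have h1 : c * (χ : G → ℂ) 1 = (Nat.card G : ℂ) := by
    rw [hd, ← CfsgLib.Characters.trace_smul_id (V := Fin n → ℂ), ← hc,
      CfsgLib.Characters.trace_avgOp, hρc, CfsgLib.Characters.classInner_isIrr_self χ.2, mul_one]
  have h2 : ∑ a : G, (χ : G → ℂ) a⁻¹ * (χ : G → ℂ) (y * a) = c * (χ : G → ℂ) y := by
    have : LinearMap.trace ℂ (Fin n → ℂ) (ρ y * CfsgLib.Characters.avgOp (χ : G → ℂ) ρ) =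
        c * (χ : G → ℂ) y := by
      rw [hc, ← hρc, mul_smul_comm, map_smul]
      rfl
    rw [← this, CfsgLib.Characters.avgOp, Finset.mul_sum, map_sum]
    refine Fintype.sum_equiv (Equiv.inv G) _ _ fun a => ?_
    rw [mul_smul_comm, map_smul, ← map_mul, Equiv.inv_apply, inv_inv, ← hρc]
    rfl
  rw [h2, eq_div_iff (CfsgLib.Characters.irr_one_ne_zero χ.2) |>.2 h1]

/-- The character sum over one commutator. -/
theorem sum_commutator_mul (χ : Cfsg.IrrCharacter G) (y : G) :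
    ∑ a : G, ∑ b : G, (χ : G → ℂ) (a * b * a⁻¹ * b⁻¹ * y) =
      ((Nat.card G : ℂ) / (χ : G → ℂ) 1) ^ 2 * (χ : G → ℂ) y := by
  have hcl := CfsgLib.Characters.isClassFunction_of_isIrr χ.2
  have h : ∀ a : G, ∑ b : G, (χ : G → ℂ) (a * b * a⁻¹ * b⁻¹ * y) =
      (Nat.card G : ℂ) / (χ : G → ℂ) 1 * ((χ : G → ℂ) a⁻¹ * (χ : G → ℂ) (y * a)) := by
    intro a
    rw [← sum_conj_mul χ a⁻¹ (y * a)]
    refine Finset.sum_congr rfl fun b _ => ?_
    rw [show a * b * a⁻¹ * b⁻¹ * y = a * (b * a⁻¹ * b⁻¹ * y) by group,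
      CfsgLib.Characters.classFunction_mul_comm hcl a (b * a⁻¹ * b⁻¹ * y)]
    congr 1
    group
  rw [Finset.sum_congr rfl fun a _ => h a, ← Finset.mul_sum, sum_inv_mul]
  ring

/-- The character sum over products of two commutators. -/
theorem sum_two_commutators (χ : Cfsg.IrrCharacter G) :
    ∑ a : G, ∑ b : G, ∑ c : G, ∑ d : G,
        (χ : G → ℂ) ((a * b * a⁻¹ * b⁻¹) * (c * d * c⁻¹ * d⁻¹)) =
      (Nat.card G : ℂ) ^ 4 / (χ : G → ℂ) 1 ^ 3 := by
  have h1 : ∀ a : G, ∀ b : G, ∑ c : G, ∑ d : G,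
      (χ : G → ℂ) ((a * b * a⁻¹ * b⁻¹) * (c * d * c⁻¹ * d⁻¹)) =
      ((Nat.card G : ℂ) / (χ : G → ℂ) 1) ^ 2 * (χ : G → ℂ) (a * b * a⁻¹ * b⁻¹) := by
    intro a b
    rw [← sum_commutator_mul χ (a * b * a⁻¹ * b⁻¹)]
    refine Finset.sum_congr rfl fun c _ => Finset.sum_congr rfl fun d _ => ?_
    rw [CfsgLib.Characters.classFunction_mul_comm
      (CfsgLib.Characters.isClassFunction_of_isIrr χ.2) _ (c * d * c⁻¹ * d⁻¹)]
  rw [Finset.sum_congr rfl fun a _ => Finset.sum_congr rfl fun b _ => h1 a b]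
  have h2 := sum_commutator_mul χ (1 : G)
  simp only [mul_one] at h2
  simp only [← Finset.mul_sum]
  rw [h2]
  have h0 := CfsgLib.Characters.irr_one_ne_zero χ.2
  field_simp

/-- Few large inverse squares of degrees force every element to be a product of two
commutators. -/
theorem exists_two_commutators
    (h : ∑ χ : Cfsg.IrrCharacter G, 1 / ‖(χ : G → ℂ) 1‖ ^ 2 < (2 : ℝ)) (g : G) :
    ∃ a b c d : G, (a * b * a⁻¹ * b⁻¹) * (c * d * c⁻¹ * d⁻¹) = g := by
  classical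
  by_contra hno
  push Not at hno
  have hnc : ∀ a b c d : G, ¬ IsConj ((a * b * a⁻¹ * b⁻¹) * (c * d * c⁻¹ * d⁻¹)) g := by
    intro a b c d hconj
    obtain ⟨x, hx⟩ := isConj_iff.1 hconj
    refine hno (x * a * x⁻¹) (x * b * x⁻¹) (x * c * x⁻¹) (x * d * x⁻¹) ?_
    rw [← hx]; group
  have hzero : ∑ χ : Cfsg.IrrCharacter G,
      conj ((χ : G → ℂ) g) * ((Nat.card G : ℂ) ^ 4 / (χ : G → ℂ) 1 ^ 3) = 0 := by
    simp only [← sum_two_commutators, Finset.mul_sum]
    rw [Finset.sum_comm]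
    refine Finset.sum_eq_zero fun a _ => ?_
    rw [Finset.sum_comm]
    refine Finset.sum_eq_zero fun b _ => ?_
    rw [Finset.sum_comm]
    refine Finset.sum_eq_zero fun c _ => ?_
    rw [Finset.sum_comm]
    refine Finset.sum_eq_zero fun d _ => ?_
    rw [← CfsgLib.Characters.sum_irr_mul_conj_of_not_isConj (hnc a b c d)]
    exact Finset.sum_congr rfl fun χ _ => mul_comm _ _
  have hN : (Nat.card G : ℂ) ^ 4 ≠ 0 := pow_ne_zero _ (Nat.cast_ne_zero.2 Nat.card_pos.ne')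
  set t : Cfsg.IrrCharacter G → ℂ := fun χ => conj ((χ : G → ℂ) g) / (χ : G → ℂ) 1 ^ 3 with ht
  have hsum : ∑ χ, t χ = 0 := by
    apply mul_left_cancel₀ hN
    rw [mul_zero, Finset.mul_sum, ← hzero]
    exact Finset.sum_congr rfl fun χ _ => by simp only [ht]; ring
  set e : Cfsg.IrrCharacter G := ⟨fun _ => 1, CfsgLib.Characters.isIrr_one⟩ with he
  rw [← Finset.add_sum_erase _ _ (Finset.mem_univ e)] at hsum h
  have hte : t e = 1 := by simp [ht, he]
  have hbound : ∀ χ : Cfsg.IrrCharacter G, ‖t χ‖ ≤ 1 / ‖(χ : G → ℂ) 1‖ ^ 2 := by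
    intro χ
    obtain ⟨n, ρ, hρ, hρc⟩ := χ.2
    have h1 : ‖(χ : G → ℂ) g‖ ≤ ‖(χ : G → ℂ) 1‖ := by
      rw [← hρc, Representation.char_one, Complex.norm_natCast]
      exact CfsgLib.Characters.norm_char_le ρ g
    have h2 : 0 < ‖(χ : G → ℂ) 1‖ := norm_pos_iff.2 (CfsgLib.Characters.irr_one_ne_zero χ.2)
    simp only [ht, norm_div, Complex.norm_conj, norm_pow]
    rw [div_le_div_iff₀ (pow_pos h2 3) (pow_pos h2 2), one_mul]
    calc ‖(χ : G → ℂ) g‖ * ‖(χ : G → ℂ) 1‖ ^ 2 ≤ ‖(χ : G → ℂ) 1‖ * ‖(χ : G → ℂ) 1‖ ^ 2 :=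
          mul_le_mul_of_nonneg_right h1 (by positivity)
      _ = ‖(χ : G → ℂ) 1‖ ^ 3 := by ring
  have hrest : ‖∑ χ ∈ Finset.univ.erase e, t χ‖ = 1 := by
    rw [hte] at hsum
    rw [eq_neg_of_add_eq_zero_right hsum, norm_neg, norm_one]
  have hle := norm_sum_le_of_le (Finset.univ.erase e) (fun χ _ => hbound χ)
  rw [hrest] at hle
  have he1 : (1 : ℝ) / ‖(e : G → ℂ) 1‖ ^ 2 = 1 := by simp [he]
  rw [he1] at h
  linarith

end CfsgLib.WordCount
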